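import Mathlib
import Cfsg.Agent.H29.ON1
import Cfsg.Agent.H29.Cert
import Cfsg.Agent.H29.ONX.D0

set_option autoImplicit false
set_option maxRecDepth 100000
set_option Elab.async false
set_option linter.all false

namespace H29.ONX

noncomputable def ly : List Net := [x8, x10, x12, x14, x16, x18, x20, x22, x24]
noncomputable def nx : ℕ → Net := nth Net.nil (ON1.nl ++ dbl ly)
def ivx : List ℕ := [0, 1, 2, 3, 4, 5, 7, 6, 9, 8, 11, 10, 13, 12, 15, 14, 17, 16, 19, 18, 21, 20, 23, 22, 25, 24]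
def defs : List (List ℕ) := [[4, 2, 4, 3, 5, 4, 0, 4, 0, 3, 2],
 [1, 2, 1, 0, 3, 2, 9, 9, 2, 3, 2, 8, 0, 1, 2, 0],
 [2, 1, 3, 1, 8, 4, 9, 9, 4, 10, 10, 0, 2, 3],
 [4, 13, 1, 4, 12, 1, 12, 4, 12, 1, 0, 2, 3, 7, 1, 0, 2, 4, 3, 2, 1, 7, 2, 4, 3, 2, 12, 1, 11, 7, 5, 12, 4, 12, 1, 6],
 [1, 15, 1, 4, 12, 4, 12, 1, 15, 1, 4, 11, 7, 1, 4, 14, 1, 4, 7, 4, 7, 8, 13, 1, 4, 13, 2, 4, 12, 1, 7],
 [7, 2, 7],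
 [7, 1, 7],
 [7, 1, 3, 6],
 [9, 17, 3, 9, 1, 4, 2, 14, 5, 4, 13, 22]]
theorem hext : chkExt 8 defs ON1.ivl ivx = true := by decide +kernel
theorem hn : NetsOK 122760 nx := netsOK_ext ON1.hn (by decide +kernel)
theorem hiv : IvOK (sg nx) (ivOf ivx) := ivOK_ext ON1.hiv hext rfl rfl
def E0 : List (List ℕ) := [[9, 4, 2, 4, 3, 5, 4, 0, 4, 0, 3, 2], [11, 1, 2, 1, 0, 3, 2, 9, 9, 2, 3, 2, 8, 0, 1, 2, 0], [13, 2, 1, 3, 1, 8, 4, 9, 9, 4, 10, 10, 0, 2, 3], [15, 4, 13, 1, 4, 12, 1, 12, 4, 12, 1, 0, 2, 3, 7, 1, 0, 2, 4, 3, 2, 1, 7, 2, 4, 3, 2, 12, 1, 11, 7, 5, 12, 4, 12, 1, 6], [17, 1, 15, 1, 4, 12, 4, 12, 1, 15, 1, 4, 11, 7, 1, 4, 14, 1, 4, 7, 4, 7, 8, 13, 1, 4, 13, 2, 4, 12, 1, 7], [19, 7, 2, 7], [21, 7, 1, 7], [23, 7, 1, 3, 6], [25, 9, 17, 3, 9, 1, 4, 2, 14, 5, 4, 13, 22]]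

end H29.ONX
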