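import Mathlib
import Cfsg.Agent.H29.ONX.B

set_option autoImplicit false
set_option maxRecDepth 100000
set_option Elab.async false
set_option linter.all false

namespace H29.ONX

theorem e0_0 : chkRelP 122760 17 nx (ivOf ivx) E0 0 = true := by decide +kernel

theorem e0_1 : chkRelP 122760 17 nx (ivOf ivx) E0 1 = true := by decide +kernel

theorem e0_2 : chkRelP 122760 17 nx (ivOf ivx) E0 2 = true := by decide +kernel

theorem e0_3 : chkRelP 122760 17 nx (ivOf ivx) E0 3 = true := by decide +kernel

theorem e0_4 : chkRelP 122760 17 nx (ivOf ivx) E0 4 = true := by decide +kernel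

theorem e0_5 : chkRelP 122760 17 nx (ivOf ivx) E0 5 = true := by decide +kernel

theorem e0_6 : chkRelP 122760 17 nx (ivOf ivx) E0 6 = true := by decide +kernel

theorem e0_7 : chkRelP 122760 17 nx (ivOf ivx) E0 7 = true := by decide +kernel

theorem e0_8 : chkRelP 122760 17 nx (ivOf ivx) E0 8 = true := by decide +kernel

theorem e0_9 : chkRelP 122760 17 nx (ivOf ivx) E0 9 = true := by decide +kernel

theorem e0_10 : chkRelP 122760 17 nx (ivOf ivx) E0 10 = true := by decide +kernel

theorem e0_11 : chkRelP 122760 17 nx (ivOf ivx) E0 11 = true := by decide +kernel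

theorem e0_12 : chkRelP 122760 17 nx (ivOf ivx) E0 12 = true := by decide +kernel

theorem e0_13 : chkRelP 122760 17 nx (ivOf ivx) E0 13 = true := by decide +kernel

theorem e0_14 : chkRelP 122760 17 nx (ivOf ivx) E0 14 = true := by decide +kernel

theorem e0_15 : chkRelP 122760 17 nx (ivOf ivx) E0 15 = true := by decide +kernel

theorem e0_16 : chkRelP 122760 17 nx (ivOf ivx) E0 16 = true := by decide +kernel

theorem ch : chkChain 122760 17 nx [(0, 4, 122760, [0, 1, 2, 3, 4, 5, 8, 10, 12, 14, 16]),
 (1, 3, 58653, [8, 10, 12, 14, 16]),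
 (72192, 2, 64, [])] [0, 1, 2, 3, 4, 5, 6, 7, 8, 10, 12, 14, 16] = true := by decide +kernel

theorem prim : Prim nx 122760 [0, 1, 2, 3, 4, 5] [7, 18, 20, 22] := prim_of_chk (r1 := 9) (r2 := 7) hn (by decide +kernel)

theorem wit0 : chkRelP 122760 17 nx (ivOf ivx) [powW 31 [24], powW 2 [0], powW 7 [24, 0]] 0 = true := by decide +kernel

theorem wit1 : chkRelP 122760 17 nx (ivOf ivx) [powW 31 [24], powW 2 [0], powW 7 [24, 0]] 1 = true := by decide +kernel

theorem wit2 : chkRelP 122760 17 nx (ivOf ivx) [powW 31 [24], powW 2 [0], powW 7 [24, 0]] 2 = true := by decide +kernel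

theorem wit3 : chkRelP 122760 17 nx (ivOf ivx) [powW 31 [24], powW 2 [0], powW 7 [24, 0]] 3 = true := by decide +kernel

theorem wit4 : chkRelP 122760 17 nx (ivOf ivx) [powW 31 [24], powW 2 [0], powW 7 [24, 0]] 4 = true := by decide +kernel

theorem wit5 : chkRelP 122760 17 nx (ivOf ivx) [powW 31 [24], powW 2 [0], powW 7 [24, 0]] 5 = true := by decide +kernel

theorem wit6 : chkRelP 122760 17 nx (ivOf ivx) [powW 31 [24], powW 2 [0], powW 7 [24, 0]] 6 = true := by decide +kernel

theorem wit7 : chkRelP 122760 17 nx (ivOf ivx) [powW 31 [24], powW 2 [0], powW 7 [24, 0]] 7 = true := by decide +kernel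

theorem wit8 : chkRelP 122760 17 nx (ivOf ivx) [powW 31 [24], powW 2 [0], powW 7 [24, 0]] 8 = true := by decide +kernel

theorem wit9 : chkRelP 122760 17 nx (ivOf ivx) [powW 31 [24], powW 2 [0], powW 7 [24, 0]] 9 = true := by decide +kernel

theorem wit10 : chkRelP 122760 17 nx (ivOf ivx) [powW 31 [24], powW 2 [0], powW 7 [24, 0]] 10 = true := by decide +kernel

theorem wit11 : chkRelP 122760 17 nx (ivOf ivx) [powW 31 [24], powW 2 [0], powW 7 [24, 0]] 11 = true := by decide +kernel

theorem wit12 : chkRelP 122760 17 nx (ivOf ivx) [powW 31 [24], powW 2 [0], powW 7 [24, 0]] 12 = true := by decide +kernel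

theorem wit13 : chkRelP 122760 17 nx (ivOf ivx) [powW 31 [24], powW 2 [0], powW 7 [24, 0]] 13 = true := by decide +kernel

theorem wit14 : chkRelP 122760 17 nx (ivOf ivx) [powW 31 [24], powW 2 [0], powW 7 [24, 0]] 14 = true := by decide +kernel

theorem wit15 : chkRelP 122760 17 nx (ivOf ivx) [powW 31 [24], powW 2 [0], powW 7 [24, 0]] 15 = true := by decide +kernel

theorem wit16 : chkRelP 122760 17 nx (ivOf ivx) [powW 31 [24], powW 2 [0], powW 7 [24, 0]] 16 = true := by decide +kernel

end H29.ONX
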